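/-
Project C3X: linear groups on the symmetric square of the three-dimensional space over the field
with three elements. Coordinates 11, 12, 13, 22, 23, 33.
-/
import Mathlib.GroupTheory.Sylow
import Mathlib.LinearAlgebra.Matrix.GeneralLinearGroup.Card
import Mathlib.Algebra.Field.ZMod
import Mathlib.Tactic

set_option autoImplicit false

namespace Cfsg.Agent.C3X

open Subgroup

/-- the field -/
abbrev F : Type := ZMod 3
/-- the module -/
abbrev V : Type := Fin 6 → ZMod 3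
/-- its linear group -/
abbrev GV : Type := V ≃ₗ[ZMod 3] V

instance : Fact (Nat.Prime 3) := ⟨Nat.prime_three⟩

theorem three : (3 : F) = 0 := rfl

theorem v_ext {v w : V} (h0 : v 0 = w 0) (h1 : v 1 = w 1) (h2 : v 2 = w 2) (h3 : v 3 = w 3)
    (h4 : v 4 = w 4) (h5 : v 5 = w 5) : v = w := by
  ext i; fin_cases i <;> assumption

/-- a linear automorphism from a function and its inverse -/
def mk (f g : V → V) (ha : ∀ v w, f (v + w) = f v + f w) (hs : ∀ (c : F) v, f (c • v) = c • f v)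
    (h1 : ∀ v, g (f v) = v) (h2 : ∀ v, f (g v) = v) : GV :=
  { toFun := f, invFun := g, map_add' := ha, map_smul' := hs, left_inv := h1, right_inv := h2 }

/-- the unitriangular matrix with entries `a` (12), `b` (23), `c` (13) -/
def pf (a b c : F) (v : V) : V :=
  ![v 0 + 2 * a * v 1 + 2 * c * v 2 + a * a * v 3 + 2 * a * c * v 4 + c * c * v 5,
    v 1 + b * v 2 + a * v 3 + (a * b + c) * v 4 + b * c * v 5, v 2 + a * v 4 + c * v 5,
    v 3 + 2 * b * v 4 + b * b * v 5, v 4 + b * v 5, v 5]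

theorem pf_pf (a b c a' b' c' : F) (v : V) :
    pf a b c (pf a' b' c' v) = pf (a + a') (b + b') (c + c' + a * b') v := by
  refine v_ext ?_ ?_ ?_ ?_ ?_ ?_ <;> simp [pf] <;> ring

theorem pf_zero (v : V) : pf 0 0 0 v = v := by
  refine v_ext ?_ ?_ ?_ ?_ ?_ ?_ <;> simp [pf]

/-- elements of the Sylow subgroup -/
def pe (a b c : F) : GV := mk (pf a b c) (pf (-a) (-b) (a * b - c))
  (fun v w => by refine v_ext ?_ ?_ ?_ ?_ ?_ ?_ <;> simp [pf] <;> ring)
  (fun k v => by refine v_ext ?_ ?_ ?_ ?_ ?_ ?_ <;> simp [pf] <;> ring)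
  (fun v => by rw [pf_pf]; ring_nf; exact pf_zero v) (fun v => by rw [pf_pf]; ring_nf; exact pf_zero v)

theorem pe_apply (a b c : F) (v : V) : pe a b c v = pf a b c v := rfl

theorem pe_mul (a b c a' b' c' : F) :
    pe a b c * pe a' b' c' = pe (a + a') (b + b') (c + c' + a * b') :=
  LinearEquiv.ext fun v => pf_pf a b c a' b' c' v

theorem pe_zero : pe 0 0 0 = 1 := LinearEquiv.ext pf_zero

theorem pe_inv (a b c : F) : (pe a b c)⁻¹ = pe (-a) (-b) (a * b - c) :=
  LinearEquiv.ext fun _ => rfl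

theorem pe_inj {a b c a' b' c' : F} (h : pe a b c = pe a' b' c') : a = a' ∧ b = b' ∧ c = c' := by
  have h1 := congrFun (LinearEquiv.congr_fun h ![0, 0, 0, 0, 1, 0]) 2
  have h2 := congrFun (LinearEquiv.congr_fun h ![0, 0, 0, 0, 0, 1]) 4
  have h3 := congrFun (LinearEquiv.congr_fun h ![0, 0, 0, 0, 0, 1]) 2
  simp only [pe_apply, pf] at h1 h2 h3
  simp at h1 h2 h3
  exact ⟨h1, h2, h3⟩

/-- sign -/
def sg (e : Bool) : F := if e then -1 else 1

theorem sg_sg (e : Bool) : sg e * sg e = 1 := by cases e <;> decide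

/-- the torus: sign `α` on the root `a`, `β` on `b`, `σ` on the long roots -/
def tf (α β σ : Bool) (v : V) : V :=
  ![sg σ * v 0, sg σ * sg α * v 1, sg σ * sg α * sg β * v 2, sg σ * v 3, sg σ * sg β * v 4, sg σ * v 5]

theorem tf_tf (α β σ : Bool) (v : V) : tf α β σ (tf α β σ v) = v := by
  cases α <;> cases β <;> cases σ <;> refine v_ext ?_ ?_ ?_ ?_ ?_ ?_ <;> simp [tf, sg]

/-- elements of the torus -/
def tor (α β σ : Bool) : GV := mk (tf α β σ) (tf α β σ)
  (fun v w => by refine v_ext ?_ ?_ ?_ ?_ ?_ ?_ <;> simp [tf] <;> ring)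
  (fun k v => by refine v_ext ?_ ?_ ?_ ?_ ?_ ?_ <;> simp [tf] <;> ring) (tf_tf α β σ) (tf_tf α β σ)

theorem tor_apply (α β σ : Bool) (v : V) : tor α β σ v = tf α β σ v := rfl

/-- `diag(1,1,-1)` -/
def rr : GV := tor false true false
/-- `diag(-1,1,1)` -/
def ss : GV := tor true false false
/-- minus one -/
def tau : GV := tor false false true

/-- the shift `33 ↦ 33 + l · 11` -/
def zf (l : F) (v : V) : V := ![v 0 + l * v 5, v 1, v 2, v 3, v 4, v 5]

/-- the shift as an automorphism -/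
def ze (l : F) : GV := mk (zf l) (zf (-l))
  (fun v w => by refine v_ext ?_ ?_ ?_ ?_ ?_ ?_ <;> simp [zf]; ring)
  (fun k v => by refine v_ext ?_ ?_ ?_ ?_ ?_ ?_ <;> simp [zf]; ring)
  (fun v => by refine v_ext ?_ ?_ ?_ ?_ ?_ ?_ <;> simp [zf])
  (fun v => by refine v_ext ?_ ?_ ?_ ?_ ?_ ?_ <;> simp [zf])

theorem ze_apply (l : F) (v : V) : ze l v = zf l v := rfl

/-- the lower transvection `1 + t E21` -/
def yaf (t : F) (v : V) : V :=
  ![v 0, v 1 + t * v 0, v 2, v 3 + 2 * t * v 1 + t * t * v 0, v 4 + t * v 2, v 5]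

/-- the lower transvection `1 + t E32` -/
def ybf (t : F) (v : V) : V :=
  ![v 0, v 1, v 2 + t * v 1, v 3, v 4 + t * v 3, v 5 + 2 * t * v 4 + t * t * v 3]

/-- `1 + E21` -/
def ya0 : GV := mk (yaf 1) (yaf (-1))
  (fun v w => by refine v_ext ?_ ?_ ?_ ?_ ?_ ?_ <;> simp [yaf] <;> ring)
  (fun k v => by refine v_ext ?_ ?_ ?_ ?_ ?_ ?_ <;> simp [yaf] <;> ring)
  (fun v => by refine v_ext ?_ ?_ ?_ ?_ ?_ ?_ <;> simp [yaf]; ring)
  (fun v => by refine v_ext ?_ ?_ ?_ ?_ ?_ ?_ <;> simp [yaf]; ring)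

/-- `1 + E32` -/
def yb0 : GV := mk (ybf 1) (ybf (-1))
  (fun v w => by refine v_ext ?_ ?_ ?_ ?_ ?_ ?_ <;> simp [ybf] <;> ring)
  (fun k v => by refine v_ext ?_ ?_ ?_ ?_ ?_ ?_ <;> simp [ybf] <;> ring)
  (fun v => by refine v_ext ?_ ?_ ?_ ?_ ?_ ?_ <;> simp [ybf]; ring)
  (fun v => by refine v_ext ?_ ?_ ?_ ?_ ?_ ?_ <;> simp [ybf]; ring)

theorem ya0_apply (v : V) : ya0 v = yaf 1 v := rfl
theorem yb0_apply (v : V) : yb0 v = ybf 1 v := rfl

/-- the shifted lower transvections -/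
def ya (l : F) : GV := ze l * ya0 * (ze l)⁻¹
/-- the shifted lower transvections -/
def yb (l : F) : GV := ze l * yb0 * (ze l)⁻¹

theorem ya_apply (l : F) (v : V) : ya l v = zf l (yaf 1 (zf (-l) v)) := rfl
theorem yb_apply (l : F) (v : V) : yb l v = zf l (ybf 1 (zf (-l) v)) := rfl

/-- the Sylow subgroup -/
def PP : Subgroup GV where
  carrier := {g | ∃ a b c, g = pe a b c}
  one_mem' := ⟨0, 0, 0, pe_zero.symm⟩
  mul_mem' := by rintro _ _ ⟨a, b, c, rfl⟩ ⟨a', b', c', rfl⟩; exact ⟨_, _, _, pe_mul ..⟩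
  inv_mem' := by rintro _ ⟨a, b, c, rfl⟩; exact ⟨_, _, _, pe_inv ..⟩

/-- transvections with centre `e1` -/
def A1 : Subgroup GV where
  carrier := {g | ∃ a c, g = pe a 0 c}
  one_mem' := ⟨0, 0, pe_zero.symm⟩
  mul_mem' := by rintro _ _ ⟨a, c, rfl⟩ ⟨a', c', rfl⟩; exact ⟨_, _, by rw [pe_mul, add_zero (0 : F)]⟩
  inv_mem' := by rintro _ ⟨a, c, rfl⟩; exact ⟨_, _, by rw [pe_inv, neg_zero]⟩

/-- transvections with axis `e1, e2` -/
def A2 : Subgroup GV where
  carrier := {g | ∃ b c, g = pe 0 b c}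
  one_mem' := ⟨0, 0, pe_zero.symm⟩
  mul_mem' := by rintro _ _ ⟨a, c, rfl⟩ ⟨a', c', rfl⟩; exact ⟨_, _, by rw [pe_mul, add_zero (0 : F)]⟩
  inv_mem' := by rintro _ ⟨a, c, rfl⟩; exact ⟨_, _, by rw [pe_inv, neg_zero]⟩

theorem mem_PP {g : GV} : g ∈ PP ↔ ∃ a b c, g = pe a b c := Iff.rfl
theorem mem_A1 {g : GV} : g ∈ A1 ↔ ∃ a c, g = pe a 0 c := Iff.rfl
theorem mem_A2 {g : GV} : g ∈ A2 ↔ ∃ b c, g = pe 0 b c := Iff.rfl

/-- the vector `11` -/
def zv : V := ![1, 0, 0, 0, 0, 0]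

/-- `x` fixes the point `11` -/
def FZ (x : GV) : Prop := x zv = zv ∨ x zv = -zv

/-- the span of `11, 12, 13` -/
def InW (v : V) : Prop := v 3 = 0 ∧ v 4 = 0 ∧ v 5 = 0
/-- the span of `11, 12, 22` -/
def InA (v : V) : Prop := v 2 = 0 ∧ v 4 = 0 ∧ v 5 = 0

instance (v : V) : Decidable (InW v) := by unfold InW; infer_instance
instance (v : V) : Decidable (InA v) := by unfold InA; infer_instance

/-- `x` fixes the span of `11, 12, 22` -/
def FA (x : GV) : Prop := ∀ v, InA v → InA (x v)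

/-- `PP` is a Sylow subgroup of `X` -/
structure Hyp (X : Subgroup GV) : Prop where
  le : PP ≤ X
  syl : ¬ 81 ∣ Nat.card X

/-- the normaliser of `PP` in `X` is standard -/
def HB (X : Subgroup GV) : Prop :=
  ∀ x ∈ X, x ∈ normalizer (PP : Set GV) → ∃ a b c α β σ, x = pe a b c * tor α β σ

/-- the orbit of `± 11` -/
def Om (X : Subgroup GV) : Set V := {v | ∃ x ∈ X, x zv = v ∨ x zv = -v}

/-- `g - 1` -/
def nn (g : GV) (v : V) : V := g v - v

/-- `(g - 1) ^ 2` has image spanned by `w` -/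
def Cu (g : GV) (w : V) : Prop :=
  w ≠ 0 ∧ (∀ v, ∃ k : F, nn g (nn g v) = k • w) ∧ ∃ v, nn g (nn g v) ≠ 0

/-- the square of `c e1 + b e2` -/
def sq (b c : F) : V := ![c * c, c * b, 0, b * b, 0, 0]

/-- the square of a vector -/
def sq3 (u : Fin 3 → F) : V := ![u 0 * u 0, u 0 * u 1, u 0 * u 2, u 1 * u 1, u 1 * u 2, u 2 * u 2]

/-- `x` fixes the hyperplane `v 5 = 0` -/
def FH (x : GV) : Prop := ∀ v : V, v 5 = 0 → x v 5 = 0

/-- chains of subspaces with trivial action on the factors -/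
inductive Ch (s : Set GV) : Submodule F V → Prop
  | bot : Ch s ⊥
  | step {C D : Submodule F V} (h : Ch s D) (le : D ≤ C) (hs : ∀ g ∈ s, ∀ v ∈ C, nn g v ∈ D) : Ch s C

/-- the three groups -/
def XX (l : F) (t : Bool) : Subgroup GV :=
  closure {pe 1 0 0, pe 0 1 0, ya l, yb 0, tor false false t}

/-- the model of the Sylow subgroup -/
@[ext] structure SS where
  /-- part in the module -/
  v : V
  /-- entry 12 -/
  a : F
  /-- entry 23 -/
  b : F
  /-- entry 13 -/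
  c : F
  deriving DecidableEq

theorem pf_add (a b c : F) (v w : V) : pf a b c (v + w) = pf a b c v + pf a b c w :=
  (pe a b c).map_add v w

theorem pf_neg (a b c : F) (v : V) : pf a b c (-v) = -pf a b c v := (pe a b c).map_neg v

theorem pf_nil (a b c : F) : pf a b c 0 = 0 := (pe a b c).map_zero

instance SS.instGroup : Group SS where
  mul x y := ⟨x.v + pf x.a x.b x.c y.v, x.a + y.a, x.b + y.b, x.c + y.c + x.a * y.b⟩
  one := ⟨0, 0, 0, 0⟩
  inv x := ⟨-pf (-x.a) (-x.b) (x.a * x.b - x.c) x.v, -x.a, -x.b, x.a * x.b - x.c⟩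
  mul_assoc x y z := SS.ext (by
      show x.v + pf x.a x.b x.c y.v + pf (x.a + y.a) (x.b + y.b) (x.c + y.c + x.a * y.b) z.v =
        x.v + pf x.a x.b x.c (y.v + pf y.a y.b y.c z.v)
      rw [pf_add, pf_pf, add_assoc]) (add_assoc _ _ _) (add_assoc _ _ _) (by
      show x.c + y.c + x.a * y.b + z.c + (x.a + y.a) * z.b = x.c + (y.c + z.c + y.a * z.b) + x.a * (y.b + z.b)
      ring)
  one_mul x := SS.ext (by show 0 + pf 0 0 0 x.v = x.v; rw [pf_zero, zero_add]) (zero_add _) (zero_add _)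
    (by show 0 + x.c + 0 * x.b = x.c; ring)
  mul_one x := SS.ext (by show x.v + pf x.a x.b x.c 0 = x.v; rw [pf_nil, add_zero]) (add_zero _) (add_zero _)
    (by show x.c + 0 + x.a * 0 = x.c; ring)
  inv_mul_cancel x := SS.ext (neg_add_cancel _) (neg_add_cancel _) (neg_add_cancel _)
    (by show x.a * x.b - x.c + x.c + -x.a * x.b = 0; ring)

theorem mul_v (x y : SS) : (x * y).v = x.v + pf x.a x.b x.c y.v := rfl
theorem mul_a (x y : SS) : (x * y).a = x.a + y.a := rfl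
theorem mul_b (x y : SS) : (x * y).b = x.b + y.b := rfl
theorem mul_c (x y : SS) : (x * y).c = x.c + y.c + x.a * y.b := rfl
theorem inv_v (x : SS) : x⁻¹.v = -pf (-x.a) (-x.b) (x.a * x.b - x.c) x.v := rfl
theorem inv_a (x : SS) : x⁻¹.a = -x.a := rfl
theorem inv_b (x : SS) : x⁻¹.b = -x.b := rfl
theorem inv_c (x : SS) : x⁻¹.c = x.a * x.b - x.c := rfl
theorem one_v : (1 : SS).v = 0 := rfl
theorem one_a : (1 : SS).a = 0 := rfl
theorem one_b : (1 : SS).b = 0 := rfl
theorem one_c : (1 : SS).c = 0 := rfl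

/-- elements of the module -/
def jv (v : V) : SS := ⟨v, 0, 0, 0⟩
/-- elements of the complement -/
def pv (a b c : F) : SS := ⟨0, a, b, c⟩

/-- coordinates -/
def SS.equivProd : SS ≃ V × F × F × F :=
  ⟨fun x => (x.v, x.a, x.b, x.c), fun y => ⟨y.1, y.2.1, y.2.2.1, y.2.2.2⟩, fun _ => rfl, fun _ => rfl⟩

instance SS.instFintype : Fintype SS := Fintype.ofEquiv _ SS.equivProd.symm

theorem card_SS : Nat.card SS = 3 ^ 9 := by
  rw [Nat.card_congr SS.equivProd]; simp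

/-- a finite group with Sylow subgroup the model, in which the module is not strongly closed and
the centre is fused to a generator of the module -/
structure Re {G : Type} [Group G] (ι : SS →* G) : Prop where
  inj : Function.Injective ι
  syl : ¬ 3 ^ 10 ∣ Nat.card G
  fin : Finite G
  top : ∃ v : V, v 5 ≠ 0 ∧ IsConj (ι (jv zv)) (ι (jv v))
  out : IsConj (ι (jv ![0, 0, 1, 0, 0, 0])) (ι (pv 0 0 1))

end Cfsg.Agent.C3X
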