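/-
Project C3X: basic facts.
-/
import Cfsg.Agent.C3X.Defs

set_option autoImplicit false

namespace Cfsg.Agent.C3X

open Subgroup

instance finGV : Finite GV := Finite.of_injective (fun g : GV => (g : V → V)) DFunLike.coe_injective

theorem gmul (g h : GV) (v : V) : (g * h) v = g (h v) := rfl
theorem gone (v : V) : (1 : GV) v = v := rfl
theorem ginv (g : GV) (v : V) : g⁻¹ (g v) = v := g.left_inv v
theorem ginv' (g : GV) (v : V) : g (g⁻¹ v) = v := g.right_inv v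

theorem pe0 (a b c : F) (v : V) : pe a b c v 0 =
    v 0 + 2 * a * v 1 + 2 * c * v 2 + a * a * v 3 + 2 * a * c * v 4 + c * c * v 5 := rfl
theorem pe1 (a b c : F) (v : V) : pe a b c v 1 =
    v 1 + b * v 2 + a * v 3 + (a * b + c) * v 4 + b * c * v 5 := rfl
theorem pe2 (a b c : F) (v : V) : pe a b c v 2 =
    v 2 + a * v 4 + c * v 5 := rfl
theorem pe3 (a b c : F) (v : V) : pe a b c v 3 =
    v 3 + 2 * b * v 4 + b * b * v 5 := rfl
theorem pe4 (a b c : F) (v : V) : pe a b c v 4 =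
    v 4 + b * v 5 := rfl
theorem pe5 (a b c : F) (v : V) : pe a b c v 5 =
    v 5 := rfl
theorem tor0 (α β σ : Bool) (v : V) : tor α β σ v 0 = sg σ * v 0 := rfl
theorem tor1 (α β σ : Bool) (v : V) : tor α β σ v 1 = sg σ * sg α * v 1 := rfl
theorem tor2 (α β σ : Bool) (v : V) : tor α β σ v 2 = sg σ * sg α * sg β * v 2 := rfl
theorem tor3 (α β σ : Bool) (v : V) : tor α β σ v 3 = sg σ * v 3 := rfl
theorem tor4 (α β σ : Bool) (v : V) : tor α β σ v 4 = sg σ * sg β * v 4 := rfl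
theorem tor5 (α β σ : Bool) (v : V) : tor α β σ v 5 = sg σ * v 5 := rfl
theorem ze0 (l : F) (v : V) : ze l v 0 = v 0 + l * v 5 := rfl
theorem ze1 (l : F) (v : V) : ze l v 1 = v 1 := rfl
theorem ze2 (l : F) (v : V) : ze l v 2 = v 2 := rfl
theorem ze3 (l : F) (v : V) : ze l v 3 = v 3 := rfl
theorem ze4 (l : F) (v : V) : ze l v 4 = v 4 := rfl
theorem ze5 (l : F) (v : V) : ze l v 5 = v 5 := rfl

attribute [simp] pe0 pe1 pe2 pe3 pe4 pe5 tor0 tor1 tor2 tor3 tor4 tor5 ze0 ze1 ze2 ze3 ze4 ze5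

theorem f3 (k : F) : k = 0 ∨ k = 1 ∨ k = -1 := by revert k; decide

theorem v3 (v : V) : v + v + v = 0 := by
  ext i; show v i + v i + v i = 0; generalize v i = k; revert k; decide

theorem pe_mem (a b c : F) : pe a b c ∈ PP := ⟨a, b, c, rfl⟩
theorem A1_le : A1 ≤ PP := fun _ ⟨a, c, e⟩ => ⟨a, 0, c, e⟩
theorem A2_le : A2 ≤ PP := fun _ ⟨b, c, e⟩ => ⟨0, b, c, e⟩

theorem card_PP : Nat.card PP = 27 := by
  have : Nat.card (F × F × F) = Nat.card PP := Nat.card_congr (Equiv.ofBijective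
    (fun x => ⟨pe x.1 x.2.1 x.2.2, pe_mem _ _ _⟩) ⟨fun x y e => by
      obtain ⟨h1, h2, h3⟩ := pe_inj (congrArg Subtype.val e)
      exact Prod.ext h1 (Prod.ext h2 h3), fun ⟨_, a, b, c, e⟩ => ⟨(a, b, c), Subtype.ext e.symm⟩⟩)
  rw [← this]; simp

theorem pe_cube (a b c : F) : pe a b c ^ 3 = 1 := by
  rw [pow_succ, pow_two, pe_mul, pe_mul, ← pe_zero]
  congr 1 <;> revert a b c <;> decide

theorem pgrp_PP : IsPGroup 3 PP := IsPGroup.of_card (n := 3) card_PP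

theorem pe_zv (a b c : F) : pe a b c zv = zv := by
  refine v_ext ?_ ?_ ?_ ?_ ?_ ?_ <;> simp [zv]

theorem zv_ne : zv ≠ 0 := by decide

theorem Hyp.mono {X Y : Subgroup GV} (h : Hyp X) (hY : Y ≤ X) (hP : PP ≤ Y) : Hyp Y :=
  ⟨hP, fun k => h.syl (k.trans (card_dvd_of_le hY))⟩

/-- Sylow's theorem -/
theorem Hyp.conj {X T : Subgroup GV} (h : Hyp X) (hT : T ≤ X) (h3 : IsPGroup 3 T) :
    ∃ y ∈ X, ∀ t ∈ T, y * t * y⁻¹ ∈ PP := by
  have cP : Nat.card (PP.subgroupOf X) = 27 := by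
    rw [Nat.card_congr (subgroupOfEquivOfLe h.le).toEquiv, card_PP]
  have hp : IsPGroup 3 (PP.subgroupOf X) := IsPGroup.of_card (n := 3) cP
  have hi : ¬ 3 ∣ (PP.subgroupOf X).index := fun ⟨k, hk⟩ => h.syl ⟨k, by
    rw [← (PP.subgroupOf X).card_mul_index, cP, hk]; ring⟩
  obtain ⟨Q, hQ⟩ := (h3.of_equiv (subgroupOfEquivOfLe hT).symm).exists_le_sylow
  obtain ⟨y, hy⟩ := MulAction.exists_smul_eq X Q (hp.toSylow hi)
  refine ⟨y, y.2, fun t ht => ?_⟩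
  have : y * ⟨t, hT ht⟩ * y⁻¹ ∈ ((hp.toSylow hi : Sylow 3 X) : Subgroup X) := by
    rw [← hy]
    exact Subgroup.smul_mem_pointwise_smul _ (MulAut.conj y) _ (hQ (show _ ∈ T.subgroupOf X from ht))
  exact this

theorem Ch.aux {s : Set GV} {C : Submodule F V} (h : Ch s C) :
    (∀ g ∈ closure s, ∀ v ∈ C, g v ∈ C) ∧ ∃ n : ℕ, ∀ g ∈ closure s, ∀ v ∈ C, (g ^ 3 ^ n) v = v := by
  induction h with
  | bot => exact ⟨fun g _ v hv => by rw [(Submodule.mem_bot F).1 hv, map_zero]; exact zero_mem _,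
      0, fun g _ v hv => by rw [(Submodule.mem_bot F).1 hv, map_zero]⟩
  | @step C D _ le hs ih =>
    obtain ⟨i1, n, i2⟩ := ih
    have k : ∀ g ∈ closure s, ∀ v ∈ C, g v - v ∈ D := by
      intro g hg
      induction hg using closure_induction with
      | mem x hx => exact hs x hx
      | one => intro v _; rw [gone, sub_self]; exact zero_mem _
      | mul x y hx _ h1 h2 =>
        intro v hv
        have := add_mem (i1 x hx _ (h2 v hv)) (h1 v hv)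
        rwa [map_sub, sub_add_sub_cancel] at this
      | inv x hx h1 =>
        intro v hv
        have := neg_mem (i1 _ (inv_mem hx) _ (h1 v hv))
        rwa [map_sub, ginv, neg_sub] at this
    refine ⟨fun g hg v hv => by simpa using add_mem (le (k g hg v hv)) hv, n + 1, fun g hg v hv => ?_⟩
    have a := i2 g hg _ (k _ (pow_mem hg (3 ^ n)) v hv)
    rw [pow_succ, pow_mul, pow_succ, pow_two, gmul, gmul]
    generalize g ^ 3 ^ n = u at a ⊢
    have b : u (u v) = u v + (u v - v) := by rw [← a, map_sub]; abel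
    rw [b, map_add, a, b]
    linear_combination (norm := skip) v3 (u v - v)
    abel

/-- the stabiliser of a chain is a 3-group -/
theorem Ch.pgrp {s : Set GV} (h : Ch s ⊤) : IsPGroup 3 (closure s) := by
  obtain ⟨n, k⟩ := h.aux.2
  exact fun g => ⟨n, Subtype.ext (LinearEquiv.ext fun v => k g g.2 v trivial)⟩

theorem nn_conj (x g : GV) (v : V) : nn (x * g * x⁻¹) (x v) = x (nn g v) := by
  simp only [nn, gmul, ginv, map_sub]

theorem nn_conj' (x g : GV) (v : V) : nn (x * g * x⁻¹) v = x (nn g (x⁻¹ v)) := by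
  rw [← nn_conj, ginv']

theorem nn_add (g : GV) (v w : V) : nn g (v + w) = nn g v + nn g w := by
  simp only [nn, map_add]; abel

theorem nn_smul (g : GV) (k : F) (v : V) : nn g (k • v) = k • nn g v := by
  simp only [nn, map_smul, smul_sub]

theorem Cu.conj {g : GV} {w : V} (h : Cu g w) (x : GV) : Cu (x * g * x⁻¹) (x w) := by
  obtain ⟨h1, h2, v, h3⟩ := h
  refine ⟨fun e => h1 (x.map_eq_zero_iff.1 e), fun u => ?_, x v, ?_⟩
  · obtain ⟨k, e⟩ := h2 (x⁻¹ u)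
    exact ⟨k, by rw [nn_conj' x g u, nn_conj, e, map_smul]⟩
  · rw [nn_conj, nn_conj]; exact fun e => h3 (x.map_eq_zero_iff.1 e)

theorem Cu.neg {g : GV} {w : V} (h : Cu g w) : Cu g (-w) :=
  ⟨neg_ne_zero.2 h.1, fun v => let ⟨k, e⟩ := h.2.1 v; ⟨-k, by rw [e, neg_smul_neg]⟩, h.2.2⟩

theorem Cu.uniq {g : GV} {w w' : V} (h : Cu g w) (h' : Cu g w') : w' = w ∨ w' = -w := by
  obtain ⟨v, h3⟩ := h.2.2
  obtain ⟨k, e⟩ := h.2.1 v
  obtain ⟨k', e'⟩ := h'.2.1 v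
  have e2 := e'.symm.trans e
  rcases f3 k with rfl | rfl | rfl <;> rcases f3 k' with rfl | rfl | rfl <;>
    simp_all [neg_eq_iff_eq_neg]

theorem nn2_A1 (a c : F) (v : V) :
    nn (pe a 0 c) (nn (pe a 0 c) v) = (2 * (a * a * v 3 + 2 * a * c * v 4 + c * c * v 5)) • zv := by
  refine v_ext ?_ ?_ ?_ ?_ ?_ ?_ <;> simp [nn, zv]; ring

theorem nn2_A2 (b c : F) (v : V) : nn (pe 0 b c) (nn (pe 0 b c) v) = (2 * v 5) • sq b c := by
  refine v_ext ?_ ?_ ?_ ?_ ?_ ?_ <;> simp [nn, sq] <;> ring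

theorem cu_A1 {a c : F} (h : a ≠ 0 ∨ c ≠ 0) : Cu (pe a 0 c) zv := by
  refine ⟨zv_ne, fun v => ⟨_, nn2_A1 a c v⟩, ?_⟩
  simp only [nn2_A1]
  rcases h with h | h
  · exact ⟨![0, 0, 0, 1, 0, 0], by revert a c; decide⟩
  · exact ⟨![0, 0, 0, 0, 0, 1], by revert a c; decide⟩

theorem cu_A2 {b c : F} (h : b ≠ 0 ∨ c ≠ 0) : Cu (pe 0 b c) (sq b c) := by
  refine ⟨by revert b c; decide, fun v => ⟨_, nn2_A2 b c v⟩, ![0, 0, 0, 0, 0, 1], ?_⟩
  rw [nn2_A2]; revert b c; decide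

/-- regular elements are not cubic with a centre -/
theorem Cu.pe {a b c : F} {w : V} (h : Cu (pe a b c) w) :
    (b = 0 ∧ (a ≠ 0 ∨ c ≠ 0) ∧ (w = zv ∨ w = -zv)) ∨ (a = 0 ∧ b ≠ 0 ∧ (w = sq b c ∨ w = -sq b c)) := by
  by_cases hb : b = 0
  · subst hb
    have : a ≠ 0 ∨ c ≠ 0 := by
      by_contra k
      push Not at k
      obtain ⟨v, e⟩ := h.2.2
      rw [nn2_A1, k.1, k.2] at e
      simp at e
    exact .inl ⟨rfl, this, (cu_A1 this).uniq h⟩
  by_cases ha : a = 0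
  · subst ha; exact .inr ⟨rfl, hb, (cu_A2 (.inl hb)).uniq h⟩
  exfalso
  obtain ⟨k, e⟩ := h.2.1 ![0, 0, 0, 0, 0, 1]
  obtain ⟨k', e'⟩ := h.2.1 ![0, 0, 0, 1, 0, 0]
  have t : ∀ a b c : F, a ≠ 0 → b ≠ 0 →
      nn (C3X.pe a b c) (nn (C3X.pe a b c) ![0, 0, 0, 0, 0, 1]) 3 ≠ 0 ∧
      nn (C3X.pe a b c) (nn (C3X.pe a b c) ![0, 0, 0, 1, 0, 0]) 3 = 0 ∧
      nn (C3X.pe a b c) (nn (C3X.pe a b c) ![0, 0, 0, 1, 0, 0]) 0 ≠ 0 := by decide
  obtain ⟨a1, a2, a3⟩ := t a b c ha hb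
  rw [e] at a1
  rw [e'] at a2 a3
  simp only [Pi.smul_apply, smul_eq_mul, mul_eq_zero, ne_eq, not_or] at a1 a2 a3
  exact a2.elim a3.1 a1.2

theorem FZ.mul {x y : GV} (h : FZ x) (k : FZ y) : FZ (x * y) := by
  rcases h with h | h <;> rcases k with k | k <;> simp [FZ, h, k]

theorem FZ.inv {x : GV} (h : FZ x) : FZ x⁻¹ := by
  rcases h with h | h
  · exact .inl (by conv_lhs => rw [← h, ginv])
  · exact .inr (by rw [← neg_eq_iff_eq_neg, ← map_neg, ← h, ginv])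

theorem fz_pe (a b c : F) : FZ (pe a b c) := .inl (pe_zv a b c)

theorem fz_tor (α β σ : Bool) : FZ (tor α β σ) := by
  unfold FZ; rw [tor_apply]; revert α β σ; decide

/-- the stabiliser of the point `11` -/
def KZ (X : Subgroup GV) : Subgroup GV where
  carrier := {x | x ∈ X ∧ FZ x}
  one_mem' := ⟨one_mem _, .inl rfl⟩
  mul_mem' h k := ⟨mul_mem h.1 k.1, h.2.mul k.2⟩
  inv_mem' h := ⟨inv_mem h.1, h.2.inv⟩

theorem Hyp.kz {X : Subgroup GV} (h : Hyp X) : Hyp (KZ X) :=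
  h.mono (fun _ k => k.1) fun _ k => ⟨h.le k, by obtain ⟨a, b, c, rfl⟩ := k; exact fz_pe a b c⟩

theorem Om.act {X : Subgroup GV} {x : GV} (hx : x ∈ X) {v : V} (h : v ∈ Om X) : x v ∈ Om X := by
  obtain ⟨y, hy, e⟩ := h
  exact ⟨x * y, mul_mem hx hy, by rcases e with e | e <;> simp [e]⟩

theorem Om.neg {X : Subgroup GV} {v : V} (h : v ∈ Om X) : -v ∈ Om X := by
  obtain ⟨y, hy, e⟩ := h
  exact ⟨y, hy, by rcases e with e | e <;> simp [e]⟩

theorem Om.z (X : Subgroup GV) : zv ∈ Om X := ⟨1, one_mem _, .inl rfl⟩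

theorem tor_pe (α β σ : Bool) (a b c : F) :
    tor α β σ * pe a b c * (tor α β σ)⁻¹ = pe (sg α * a) (sg β * b) (sg α * sg β * c) := by
  rw [mul_inv_eq_iff_eq_mul]
  refine LinearEquiv.ext fun v => ?_
  cases α <;> cases β <;> cases σ <;> refine v_ext ?_ ?_ ?_ ?_ ?_ ?_ <;>
    simp [sg] <;> ring

theorem tor_mul (α β σ α' β' σ' : Bool) :
    tor α β σ * tor α' β' σ' = tor (xor α α') (xor β β') (xor σ σ') := by
  refine LinearEquiv.ext fun v => ?_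
  cases α <;> cases β <;> cases σ <;> cases α' <;> cases β' <;> cases σ' <;>
    refine v_ext ?_ ?_ ?_ ?_ ?_ ?_ <;> simp [sg]

theorem tor_one : tor false false false = 1 :=
  LinearEquiv.ext fun v => by refine v_ext ?_ ?_ ?_ ?_ ?_ ?_ <;> simp [sg]

theorem tau_apply (v : V) : tau v = -v := by
  refine v_ext ?_ ?_ ?_ ?_ ?_ ?_ <;> simp [tau, sg]

theorem ze_pe (l a b c : F) : ze l * pe a b c = pe a b c * ze l := by
  refine LinearEquiv.ext fun v => ?_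
  refine v_ext ?_ ?_ ?_ ?_ ?_ ?_ <;> simp; ring

theorem ze_tor (l : F) (α β σ : Bool) : ze l * tor α β σ = tor α β σ * ze l := by
  refine LinearEquiv.ext fun v => ?_
  refine v_ext ?_ ?_ ?_ ?_ ?_ ?_ <;> simp; ring

theorem ze_mul (l m : F) : ze l * ze m = ze (l + m) := by
  refine LinearEquiv.ext fun v => ?_
  refine v_ext ?_ ?_ ?_ ?_ ?_ ?_ <;> simp; ring

theorem ze_inv (l : F) : (ze l)⁻¹ = ze (-l) := LinearEquiv.ext fun _ => rfl

end Cfsg.Agent.C3X
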