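/-
Project C3X: homomorphisms out of the model group from generators and relations.
-/
import Cfsg.Agent.C3X.Bas

set_option autoImplicit false

namespace Cfsg.Agent.C3X

open Subgroup

variable {G : Type*} [Group G]

/-- a word for a vector -/
def wd {α : Type*} (L : Fin 6 → α) (v : V) : List α :=
  (List.finRange 6).flatMap fun i => List.replicate (v i).val (L i)

/-- the element for a vector -/
def ph (j : Fin 6 → G) (v : V) : G := (wd j v).prod

theorem wd_rel {α β : Type*} {r : α → β → Prop} {L : Fin 6 → α} {M : Fin 6 → β}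
    (h : ∀ i, r (L i) (M i)) (v : V) : List.Forall₂ r (wd L v) (wd M v) := by
  unfold wd
  induction List.finRange 6 with
  | nil => exact .nil
  | cons i l ih =>
    rw [List.flatMap_cons, List.flatMap_cons]
    refine List.rel_append ?_ ih
    induction (v i).val with
    | zero => exact .nil
    | succ n k => exact .cons (h i) k

theorem ph_eq (j : Fin 6 → G) (v : V) :
    ph j v = ((List.finRange 6).map fun i => j i ^ (v i).val).prod := by
  unfold ph wd
  induction List.finRange 6 with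
  | nil => rfl
  | cons i l ih => rw [List.flatMap_cons, List.prod_append, List.prod_replicate, ih]; rfl

theorem pw_add {g : G} (h : g ^ 3 = 1) (a b : F) : g ^ (a + b).val = g ^ a.val * g ^ b.val := by
  rw [ZMod.val_add, ← pow_eq_pow_mod _ h, pow_add]

theorem pw_mul {g : G} (h : g ^ 3 = 1) (a b : F) : g ^ (a * b).val = g ^ (a.val * b.val) := by
  rw [ZMod.val_mul, ← pow_eq_pow_mod _ h]

/-- relations of the model group -/
structure Rl (j : Fin 6 → G) (x y t : G) : Prop where
  j3 : ∀ i, j i ^ 3 = 1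
  jc : ∀ i k, j i * j k = j k * j i
  x3 : x ^ 3 = 1
  y3 : y ^ 3 = 1
  t3 : t ^ 3 = 1
  tx : t * x = x * t
  ty : t * y = y * t
  xy : x * y = t * y * x
  xj : ∀ i, x * j i = ph j (pf 1 0 0 (Pi.single i 1)) * x
  yj : ∀ i, y * j i = ph j (pf 0 1 0 (Pi.single i 1)) * y
  tj : ∀ i, t * j i = ph j (pf 0 0 1 (Pi.single i 1)) * t

variable {j : Fin 6 → G} {x y t : G}

theorem ph_zero (j : Fin 6 → G) : ph j 0 = 1 := by simp [ph_eq]

theorem ph_single (j : Fin 6 → G) (i : Fin 6) : ph j (Pi.single i 1) = j i := by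
  have : (1 : F).val = 1 := rfl
  fin_cases i <;> simp [ph_eq, List.finRange, this]

theorem Rl.add (h : Rl j x y t) (v w : V) : ph j (v + w) = ph j v * ph j w := by
  simp only [ph_eq]
  induction List.finRange 6 with
  | nil => simp
  | cons i l ih =>
    rw [List.map_cons, List.prod_cons, ih]
    simp only [List.map_cons, List.prod_cons, Pi.add_apply, pw_add (h.j3 i), mul_assoc]
    congr 1
    rw [← mul_assoc, ← mul_assoc]
    congr 1
    refine (Commute.list_prod_right _ _ fun a ha => ?_).eq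
    obtain ⟨k, -, rfl⟩ := List.mem_map.1 ha
    exact Commute.pow_pow (h.jc i k) _ _

theorem Rl.act1 (h : Rl j x y t) {g : G} {e : GV}
    (k : ∀ i, g * j i = ph j (e (Pi.single i 1)) * g) (v : V) : g * ph j v = ph j (e v) * g := by
  have ad : ∀ v w, g * ph j v = ph j (e v) * g → g * ph j w = ph j (e w) * g →
      g * ph j (v + w) = ph j (e (v + w)) * g := fun v w a b => by
    rw [map_add, h.add, h.add, ← mul_assoc, a, mul_assoc, b, mul_assoc]
  have z0 : g * ph j 0 = ph j (e 0) * g := by rw [map_zero, ph_zero, mul_one, one_mul]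
  refine Pi.single_induction (fun v => g * ph j v = ph j (e v) * g) v z0 ad fun i m => ?_
  have s1 : g * ph j (Pi.single i 1) = ph j (e (Pi.single i 1)) * g := by rw [ph_single, k]
  rcases f3 m with rfl | rfl | rfl
  · simpa using z0
  · exact s1
  · rw [show (-1 : F) = 1 + 1 from rfl, Pi.single_add]; exact ad _ _ s1 s1

theorem act2 {g : G} {e : F → V → V} (h0 : ∀ v, e 0 v = v) (h2 : ∀ v, e 1 (e 1 v) = e (-1) v)
    (k : ∀ v, g * ph j v = ph j (e 1 v) * g) (a : F) (v : V) :
    g ^ a.val * ph j v = ph j (e a v) * g ^ a.val := by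
  rcases f3 a with rfl | rfl | rfl
  · simp [h0]
  · simpa [show (1 : F).val = 1 from rfl] using k v
  · rw [show (-1 : F).val = 2 from rfl, pow_two, mul_assoc, k, ← mul_assoc, k, h2, mul_assoc]

theorem Rl.cm (h : Rl j x y t) (m n : ℕ) : x ^ m * y ^ n = t ^ (m * n) * y ^ n * x ^ m := by
  have c1 : Commute t x := h.tx
  have c2 : Commute t y := h.ty
  have a : x * y ^ n = t ^ n * y ^ n * x := by
    induction n with
    | zero => simp
    | succ n ih =>
      rw [pow_succ, ← mul_assoc, ih, mul_assoc, h.xy, pow_succ]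
      simp only [mul_assoc]
      congr 1
      rw [← mul_assoc, ← (c2.pow_right n).eq, mul_assoc]
  induction m with
  | zero => simp
  | succ m ih =>
    rw [pow_succ', mul_assoc, ih, mul_assoc, ← mul_assoc, ← (c1.pow_left _).eq, mul_assoc,
      ← mul_assoc x, a, add_mul, one_mul, pow_add]
    simp only [mul_assoc]

/-- the homomorphism -/
def Rl.hom (h : Rl j x y t) : SS →* G := MonoidHom.mk'
  (fun s => ph j s.v * (t ^ s.c.val * (y ^ s.b.val * x ^ s.a.val))) fun s u => by
    have c1 : Commute t x := h.tx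
    have c2 : Commute t y := h.ty
    have ax := act2 (e := fun a => pf a 0 0) pf_zero (fun v => by rw [pf_pf]; rfl)
      (h.act1 (e := pe 1 0 0) h.xj) s.a
    have ay := act2 (e := fun a => pf 0 a 0) pf_zero (fun v => by rw [pf_pf]; rfl)
      (h.act1 (e := pe 0 1 0) h.yj) s.b
    have az := act2 (e := fun a => pf 0 0 a) pf_zero (fun v => by rw [pf_pf]; rfl)
      (h.act1 (e := pe 0 0 1) h.tj) s.c
    have k : t ^ s.c.val * (y ^ s.b.val * x ^ s.a.val) * ph j u.v =
        ph j (pf s.a s.b s.c u.v) * (t ^ s.c.val * (y ^ s.b.val * x ^ s.a.val)) := by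
      rw [mul_assoc, mul_assoc, ax, ← mul_assoc (y ^ _), ay, mul_assoc, ← mul_assoc (t ^ _), az,
        pf_pf, pf_pf]
      simp [mul_assoc]
    rw [mul_v, mul_a, mul_b, mul_c, h.add, mul_assoc, mul_assoc, ← mul_assoc _ (ph j u.v), k,
      mul_assoc, pw_add h.x3, pw_add h.y3, pw_add h.t3, pw_add h.t3, pw_mul h.t3]
    congr 2
    simp only [mul_assoc]
    congr 1
    rw [← mul_assoc (x ^ _) (t ^ _), ← (c1.pow_pow _ _).eq, mul_assoc, ← mul_assoc (y ^ s.b.val) (t ^ _),
      ← (c2.pow_pow _ _).eq, mul_assoc, ← mul_assoc (x ^ s.a.val) (y ^ _), h.cm, mul_assoc, mul_assoc,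
      ← mul_assoc (y ^ s.b.val) (t ^ _), ← (c2.pow_pow _ _).eq, mul_assoc]

theorem Rl.hom_jv (h : Rl j x y t) (v : V) : h.hom (jv v) = ph j v := by
  show ph j v * (t ^ 0 * (y ^ 0 * x ^ 0)) = _
  simp

theorem Rl.hom_pv (h : Rl j x y t) (a b c : F) :
    h.hom (pv a b c) = t ^ c.val * (y ^ b.val * x ^ a.val) := by
  show ph j 0 * _ = _
  rw [ph_zero, one_mul]; rfl

theorem pgrp_SS : IsPGroup 3 SS := IsPGroup.of_card card_SS

theorem center_SS {s : SS} (h : s ∈ center SS) : s = 1 ∨ s = jv zv ∨ s = (jv zv)⁻¹ := by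
  rw [mem_center_iff] at h
  obtain ⟨v, a, b, c⟩ := s
  have h1 := congrArg (fun s : SS => s.v 4) (h (jv ![0, 0, 0, 0, 0, 1]))
  have h2 := congrArg (fun s : SS => s.v 2) (h (jv ![0, 0, 0, 0, 0, 1]))
  have h3 := congrArg (fun s : SS => s.v 2) (h (jv ![0, 0, 0, 0, 1, 0]))
  have h4 := congrArg (fun s : SS => s.v) (h (pv 1 0 0))
  have h5 := congrArg (fun s : SS => s.v) (h (pv 0 1 0))
  simp [mul_v, jv, pf] at h1 h2 h3
  subst h1 h2 h3
  simp only [mul_v, pv, pf_nil, zero_add, add_zero] at h4 h5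
  have : ∀ v : V, pf 1 0 0 v = v → pf 0 1 0 v = v → v = 0 ∨ v = zv ∨ v = -zv := by decide +kernel
  rcases this v h4 h5 with rfl | rfl | rfl
  · exact .inl rfl
  · exact .inr (.inl rfl)
  · exact .inr (.inr (by decide))

/-- a homomorphism is injective once the centre survives -/
theorem inj_of_z {ι : SS →* G} (h : ι (jv zv) ≠ 1) : Function.Injective ι := by
  rw [← MonoidHom.ker_eq_bot_iff]
  by_contra k
  have := (Subgroup.nontrivial_iff_ne_bot _).2 k
  obtain ⟨s, hs⟩ := (IsPGroup.exists_fixed_point_of_prime_dvd_card_of_fixed_point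
    (α := ι.ker) (G := ConjAct SS) (pgrp_SS.of_equiv ConjAct.toConjAct) (by
      obtain ⟨n, hn, e⟩ := (pgrp_SS.to_subgroup ι.ker).nontrivial_iff_card.1 this
      rw [e]; exact dvd_pow_self _ hn.ne') (a := 1) fun g => smul_one g)
  have hc : (s : SS) ∈ center SS := mem_center_iff.2 fun g => by
    have := congrArg Subtype.val (hs.1 (ConjAct.toConjAct g))
    exact mul_inv_eq_iff_eq_mul.1 this
  have h1 : ι s = 1 := s.2
  rcases center_SS hc with e | e | e
  · exact hs.2 (Subtype.ext e.symm)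
  · exact h (e ▸ h1)
  · rw [e, map_inv, inv_eq_one] at h1; exact h h1

end Cfsg.Agent.C3X
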