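/-
Project C3X: the Thompson subgroup of the model group, control of fusion, trivial core.
-/
import Cfsg.Agent.C3X.Lift
import Cfsg.Agent.FK.Uniq

set_option autoImplicit false

namespace Cfsg.Agent.C3X

open Subgroup FK
open SR3 (nm ce)

/-- the module inside the model group -/
def Jv : Subgroup SS where
  carrier := {s | s.a = 0 ∧ s.b = 0 ∧ s.c = 0}
  one_mem' := ⟨rfl, rfl, rfl⟩
  mul_mem' := fun {x y} h k => by simp [mul_a, mul_b, mul_c, h.1, h.2.1, h.2.2, k.1, k.2.1, k.2.2]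
  inv_mem' := fun {x} h => by simp [inv_a, inv_b, inv_c, h.1, h.2.1, h.2.2]

theorem jv_mem (v : V) : jv v ∈ Jv := ⟨rfl, rfl, rfl⟩

theorem eq_jv {s : SS} (h : s ∈ Jv) : s = jv s.v := SS.ext rfl h.1 h.2.1 h.2.2

theorem jv_add (v w : V) : jv (v + w) = jv v * jv w :=
  SS.ext (by simp [mul_v, jv, pf_zero]) (by simp [mul_a, jv]) (by simp [mul_b, jv]) (by simp [mul_c, jv])

theorem jv_zero : jv 0 = 1 := rfl

theorem jv_neg (v : V) : jv (-v) = (jv v)⁻¹ :=
  eq_inv_of_mul_eq_one_left (by rw [← jv_add, neg_add_cancel, jv_zero])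

theorem jv_inj {v w : V} (h : jv v = jv w) : v = w := congrArg SS.v h

theorem mul_jv (s : SS) (v : V) : s * jv v = jv (pf s.a s.b s.c v) * s :=
  SS.ext (by simp [mul_v, jv, pf_zero, add_comm]) (by simp [mul_a, jv]) (by simp [mul_b, jv])
    (by simp [mul_c, jv])

theorem conj_jv (s : SS) (v : V) : s * jv v * s⁻¹ = jv (pf s.a s.b s.c v) := by
  rw [mul_jv, mul_inv_cancel_right]

theorem Jv_comm {s t : SS} (h : s ∈ Jv) (k : t ∈ Jv) : s * t = t * s := by
  rw [eq_jv h, eq_jv k, ← jv_add, ← jv_add, add_comm]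

theorem card_Jv : Nat.card Jv = 3 ^ 6 := by
  rw [Nat.card_congr (⟨fun s => s.1.v, fun v => ⟨jv v, jv_mem v⟩, fun s => Subtype.ext (eq_jv s.2).symm,
    fun _ => rfl⟩ : Jv ≃ V)]
  simp

/-- the projection to the linear group -/
def prj : SS →* GV := MonoidHom.mk' (fun s => pe s.a s.b s.c) fun _ _ => (pe_mul ..).symm

theorem ker_prj : prj.ker = Jv := ext fun s => ⟨fun h => pe_inj (h.trans pe_zero.symm), fun h => by
  show pe s.a s.b s.c = 1
  rw [h.1, h.2.1, h.2.2, pe_zero]⟩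

theorem card_fix : ∀ a b c : F, (a ≠ 0 ∨ b ≠ 0 ∨ c ≠ 0) →
    (Finset.univ.filter fun v : V => pf a b c v = v).card ≤ 27 := by decide +kernel

/-- the module is the only abelian subgroup of its order -/
theorem eq_Jv {B : Subgroup SS} (h : ∀ a ∈ B, ∀ b ∈ B, a * b = b * a) (hc : 3 ^ 6 ≤ Nat.card B) : B = Jv := by
  refine eq_of_le_of_card_ge ?_ (card_Jv ▸ hc)
  by_contra k
  obtain ⟨s, hs, hs'⟩ := SetLike.not_le_iff_exists.1 k
  have c1 : Nat.card (prj.comp B.subtype).ker ≤ 27 := by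
    refine le_trans ?_ (card_fix s.a s.b s.c (by by_contra! e; exact hs' e))
    rw [← Nat.card_eq_finsetCard]
    refine Nat.card_le_card_of_injective (fun x => ⟨x.1.1.v, Finset.mem_filter.2 ⟨Finset.mem_univ _, ?_⟩⟩)
      fun x y e => Subtype.ext (Subtype.ext ?_)
    · have m : x.1.1 ∈ Jv := ker_prj ▸ x.2
      refine jv_inj ?_
      rw [← conj_jv, ← eq_jv m, h s hs _ x.1.2, mul_inv_cancel_right]
    · have m : x.1.1 ∈ Jv := ker_prj ▸ x.2
      have m' : y.1.1 ∈ Jv := ker_prj ▸ y.2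
      rw [eq_jv m, eq_jv m', show x.1.1.v = y.1.1.v from congrArg Subtype.val e]
  have le : (prj.comp B.subtype).range ≤ PP := by rintro _ ⟨x, rfl⟩; exact pe_mem _ _ _
  have c2 : Nat.card (prj.comp B.subtype).range ≤ 9 := by
    have d := card_dvd_of_le le
    rw [card_PP] at d
    have ne : Nat.card (prj.comp B.subtype).range ≠ 27 := fun e => by
      have := eq_of_le_of_card_ge le (by rw [card_PP, e])
      obtain ⟨x, hx⟩ := this.ge (pe_mem 1 0 0)
      obtain ⟨y, hy⟩ := this.ge (pe_mem 0 1 0)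
      have k : prj.comp B.subtype (x * y) = prj.comp B.subtype (y * x) := by
        congr 1; exact Subtype.ext (h _ x.2 _ y.2)
      rw [map_mul, map_mul, hx, hy, pe_mul, pe_mul] at k
      exact absurd (pe_inj k).2.2 (by decide)
    obtain ⟨i, hi, e⟩ := (Nat.dvd_prime_pow Nat.prime_three (m := 3)).1 d
    rw [e] at ne ⊢
    interval_cases i <;> simp_all
  have := card_eq_card_quotient_mul_card_subgroup (prj.comp B.subtype).ker
  rw [Nat.card_congr (QuotientGroup.quotientKerEquivRange _).toEquiv] at this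
  nlinarith

variable {G : Type*} [Group G] {u : SS →* G}

/-- an element conjugating the module into the image normalises it -/
theorem nm_Jv [Finite G] (hu : Function.Injective u) {g : G} (h : ∀ v, g * u (jv v) * g⁻¹ ∈ u.range) :
    g ∈ nm (Jv.map u) := by
  let B : Subgroup SS := (SR3.cj g (Jv.map u)).comap u
  have le : SR3.cj g (Jv.map u) ≤ u.range := by
    rintro _ ⟨_, ⟨s, hs, rfl⟩, rfl⟩
    exact eq_jv hs ▸ h s.v
  have e : B.map u = SR3.cj g (Jv.map u) := map_comap_eq_self le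
  have : B = Jv := eq_Jv (fun a ha b hb => hu (by
      obtain ⟨_, ⟨s, hs, rfl⟩, e1⟩ := ha
      obtain ⟨_, ⟨t, ht, rfl⟩, e2⟩ := hb
      rw [map_mul, map_mul, ← e1, ← e2, ← map_mul, ← map_mul, ← map_mul, ← map_mul, Jv_comm hs ht]))
    (by rw [← card_map_of_injective hu, e, SR3.card_cj, card_map_of_injective hu, card_Jv])
  exact SR3.mem_nm_iff.2 (by rw [← e, this])

/-- fusion in the module is controlled by its normaliser -/
theorem burn [Finite G] (h : Sat 3 u) {v w : V} (e : IsConj (u (jv v)) (u (jv w))) :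
    ∃ g ∈ nm (Jv.map u), g * u (jv v) * g⁻¹ = u (jv w) := by
  have le : ∀ v, zpowers (u (jv v)) ≤ u.range := fun v => zpowers_le.2 ⟨_, rfl⟩
  obtain ⟨Q, hQ, hc⟩ := H91.exists_fullyCentralized (groupFusionSystem u.range) (le w)
  have hR := H91.sat_receptive h.pg_range h.sat hc
  have key : ∀ (v : V) (f : G → G), H91.M (groupFusionSystem u.range) (zpowers (u (jv v))) f →
      H91.im f (zpowers (u (jv v))) = Q → ∃ g ∈ nm (Jv.map u), g * u (jv v) * g⁻¹ = f (u (jv v)) := by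
    intro v f hf him
    obtain ⟨k, hk, e1, -⟩ := hf.extend_centralizer him hR
    obtain ⟨-, hm, g, hg⟩ := H91.M_group_iff.1 hk
    refine ⟨g, nm_Jv h.inj fun x => ?_, by
      rw [← hg _ (mem_sup_left (mem_zpowers _)), e1 _ (mem_zpowers _)]⟩
    have m : u (jv x) ∈ zpowers (u (jv v)) ⊔ FusionSystem.centralizerIn u.range (zpowers (u (jv v))) :=
      mem_sup_right ⟨⟨_, rfl⟩, by
        rintro _ ⟨n, rfl⟩
        refine (Commute.zpow_left ?_ n).eq
        show _ * _ = _ * _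
        rw [← map_mul, ← map_mul, Jv_comm (jv_mem v) (jv_mem x)]⟩
    exact hg _ m ▸ hm _ m
  obtain ⟨f, hf, him⟩ := H91.isConj_iff.1 hQ
  obtain ⟨c, hc⟩ := isConj_iff.1 e
  have mz : ∀ x ∈ zpowers (u (jv v)), c * x * c⁻¹ ∈ zpowers (u (jv w)) := by
    rintro _ ⟨n, rfl⟩
    exact ⟨n, by simp only [← hc, conj_zpow]⟩
  have hM : H91.M (groupFusionSystem u.range) (zpowers (u (jv v))) fun x => c * x * c⁻¹ :=
    H91.M_group_iff.2 ⟨le v, fun x hx => le w (mz x hx), c, fun _ _ => rfl⟩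
  obtain ⟨g1, a1, b1⟩ := key w f hf him
  obtain ⟨g2, a2, b2⟩ := key v _ (hf.comp hM mz) (by
    refine (hf.comp hM mz).im_eq_of_card (fun x hx => him ▸ hf.mem_im le_rfl |>.2 ⟨_, mz x hx, rfl⟩) ?_
    rw [← him, hf.card_im le_rfl, Nat.card_zpowers, Nat.card_zpowers, ← hc, ← MulAut.conj_apply,
      MulEquiv.orderOf_eq])
  refine ⟨g1⁻¹ * g2, mul_mem (inv_mem a1) a2, ?_⟩
  rw [hc, ← b1] at b2
  rw [mul_inv_rev, inv_inv, mul_assoc, mul_assoc, ← mul_assoc g2, ← mul_assoc (g2 * _), b2]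
  group

theorem Re.idx {G : Type} [Group G] {ι : SS →* G} (h : Re ι) : ¬ 3 ∣ ι.range.index := fun ⟨k, hk⟩ =>
  h.syl ⟨k, by
    rw [← ι.range.card_mul_index, hk, ← Nat.card_congr (MonoidHom.ofInjective h.inj).toEquiv, card_SS]; ring⟩

theorem Re.sat {G : Type} [Group G] {ι : SS →* G} (h : Re ι) : Sat 3 ι := by
  have := h.fin
  exact ⟨pgrp_SS, h.inj, H92.saturated_group
    ((pgrp_SS.of_surjective _ ι.rangeRestrict_surjective).toSylow h.idx)⟩

theorem gen13 {B : Subgroup SS} (hn : ∀ s, ∀ b ∈ B, s * b * s⁻¹ ∈ B) {v : V} (h5 : v 5 ≠ 0) (hv : jv v ∈ B) :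
    jv ![0, 0, 1, 0, 0, 0] ∈ B := by
  have k : ∀ a b c v, jv v ∈ B → jv (pf a b c v - v) ∈ B := fun a b c v hv => by
    rw [sub_eq_add_neg, jv_add, jv_neg]
    exact mul_mem (conj_jv (pv a b c) v ▸ hn _ _ hv) (inv_mem hv)
  have h1 := k 0 0 1 v hv
  have h2 := k 0 1 0 _ h1
  have h3 := k 0 0 1 _ h1
  have : ∀ v : V, v 5 ≠ 0 → ∃ i j k : F, (![0, 0, 1, 0, 0, 0] : V) = i • (pf 0 0 1 v - v) +
      j • (pf 0 1 0 (pf 0 0 1 v - v) - (pf 0 0 1 v - v)) + k • (pf 0 0 1 (pf 0 0 1 v - v) - (pf 0 0 1 v - v)) := by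
    decide +kernel
  obtain ⟨i, j, k, e⟩ := this v h5
  have sm : ∀ (i : F) w, jv w ∈ B → jv (i • w) ∈ B := fun i w hw => by
    rcases f3 i with rfl | rfl | rfl
    · rw [zero_smul]; exact one_mem _
    · rwa [one_smul]
    · rw [neg_one_smul, jv_neg]; exact inv_mem hw
  rw [e, jv_add, jv_add]
  exact mul_mem (mul_mem (sm _ _ h1) (sm _ _ h2)) (sm _ _ h3)

theorem Re.core {G : Type} [Group G] {ι : SS →* G} (h : Re ι) : (groupFusionSystem ι.range).core = ⊥ := by
  have := h.fin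
  by_contra hO
  have hN := H91.core_normal (groupFusionSystem ι.range)
  generalize (groupFusionSystem ι.range).core = N at hO hN
  have sc := H91.stronglyClosed_char_of_normal hN (center N)
  have cl : ∀ x ∈ (center N).map N.subtype, ∀ y ∈ ι.range, IsConj x y → y ∈ (center N).map N.subtype := by
    intro x hx y hy e
    obtain ⟨c, rfl⟩ := isConj_iff.1 e
    have le : zpowers x ≤ ι.range := zpowers_le.2 (sc.1 hx)
    have hM : H91.M (groupFusionSystem ι.range) (zpowers x) fun x => c * x * c⁻¹ :=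
      H91.M_group_iff.2 ⟨le, by rintro _ ⟨n, rfl⟩; simpa only [conj_zpow] using zpow_mem hy n, c, fun _ _ => rfl⟩
    exact hM.mem_of_stronglyClosed sc (mem_zpowers _) hx
  let B : Subgroup SS := ((center N).map N.subtype).comap ι
  have hn : ∀ s, ∀ b ∈ B, s * b * s⁻¹ ∈ B := fun s b hb =>
    cl _ hb _ ⟨_, rfl⟩ (isConj_iff.2 ⟨ι s, by simp⟩)
  have ab : ∀ a ∈ B, ∀ b ∈ B, a * b = b * a := by
    rintro a ⟨x, hx, e1⟩ b ⟨y, -, e2⟩
    refine h.inj ?_
    rw [map_mul, map_mul, ← e1, ← e2, ← map_mul, ← map_mul, mem_center_iff.1 hx]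
  have nb : B ≠ ⊥ := fun e => by
    have := (nontrivial_iff_ne_bot _).2 hO
    have := (h.sat.pg_range.to_le hN.1).center_nontrivial
    obtain ⟨x, hx⟩ := exists_ne (1 : center N)
    obtain ⟨s, hs⟩ := hN.1 x.1.2
    have m : s ∈ B := ⟨x.1, x.2, hs.symm⟩
    rw [e, mem_bot] at m
    exact hx (Subtype.ext (Subtype.ext (by rw [← hs, m, map_one]; rfl)))
  have nr : B.Normal := ⟨fun b hb s => hn s b hb⟩
  have hz : jv zv ∈ B := by
    by_contra k
    have := inj_of_z (ι := QuotientGroup.mk' B) fun e => k ((QuotientGroup.eq_one_iff _).1 e)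
    rw [← MonoidHom.ker_eq_bot_iff, QuotientGroup.ker_mk'] at this
    exact nb this
  obtain ⟨v, h5, e⟩ := h.top
  have h1 := gen13 hn h5 (cl _ hz _ ⟨_, rfl⟩ e)
  exact absurd (ab _ h1 (pv 0 0 1) (cl _ h1 _ ⟨_, rfl⟩ h.out)) (by decide)

end Cfsg.Agent.C3X
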