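import Cfsg.Agent.C3X.Bas
import Cfsg.Agent.H14.Loop

set_option autoImplicit false

namespace Cfsg.Agent.C3X

open Subgroup

namespace Cnt

open H14

def wT : ℕ := nat_lit 0x211211211943963953d43d53d63e43e53e63211211211a43a63a53863853843c53c63c43211211211944945946956954955966964965a66a64a65a44a45a46a56a54a5585485585686486586684584684490881c44b90c46ba28d0c45b818e0c05b918a0891c04ba0c06b82816b92880c15ba18c0ca1c14b808d83d93da31111111119839a3993111111111a83aa3a93e83e93ea38a3893883c93ca3c831111111119a69a49a5984985986996994995a84a85a86a96a94a95aa6aa4aa58948958968a48a58a6885886884d4c49b85894885c48b94c4aba68a4895c08ba4c0ab868e4c09b9581ab96884c19ba58c4ca5c18b848916914915926924925904905906a16a14a15a26a24a25a04a05a0681481581682482582680580680498c42baa8d8c41b89898889c40ba8c02b8a8e8c01b998a8899c00b12b9a888c11ba98c8ca9c10b888903923913d03d13d23011011011a03a23a13e03e13e23011011011823813803c13c23c030110110112942962952852842862a42a62a51851841861a41a61a51941961950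a50a40a60950940960860850842a32832931111111116936836a31111111115935835a31a31831934a34934830930a30831111111118ab24c06815c24888b89b64c15805c148c8bc9b54c058cab14c26825899b44c1689ab04c98b25c04824524424626426626525425625515415615514514414616416616506506406605505405604604504421121121165364366326324325316314315321121121155354356346345344305306304321121121111c20884b85b60c11886b20c028c6b10c22801c108c4bc5b50c01821895b40c12896b00c94b21c00881b68c19882b28c0a819c28880bc1b58c098c2b18c2a809c188c0b29891b48c1a892b08c90b29c088224226225214216215205204206124126125114116115105104106025024026015014016006005004613603623223203213011011011513503523123103113011011011423413403013023003011011011a97a9929a89909a89719a9979998a90aa8a79a79a91aa2aaaa7aa998918a987a8928aa8788908a88785905a85715a957959a57a5925a26aa67a6986906a86796796916a94914a947a4924aa4784904a84711a917919a17a1921a81901a81792792912a22aa27a2982902a82790910a907a0920aa0780900a80786a069067267a6a26916916796a15795a15985a059057259257a5aa4a24924794a14914784a0490471a91a79aa8aa0a90a72a7aaa2a989a099097299297a9a19799a199a8a28928798a18918788a089087227a2a22912912792a82a029027219217a1a11791a11981a019017a0a20920790a10910780a009007a42942842a82982882a02902802d82e82c82d42e42c42d02e02c02101101101101101101101101101642542442682582482602502402182282082142242042102202002101101101101101101101101101211211211111111111011011011111111111211211211011011011101101101101101101800000101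

/-- the certificate of the vector with number `n` -/
def wt (n : ℕ) : ℕ := Nat.mod (Nat.shiftRight wT (Nat.mul (nat_lit 12) n)) (nat_lit 4096)
/-- its class -/
def kl (n : ℕ) : ℕ := Nat.mod (wt n) (nat_lit 16)
def wa (n : ℕ) : F := (wt n / 16 % 4 : ℕ)
def wb (n : ℕ) : F := (wt n / 64 % 4 : ℕ)
def wc (n : ℕ) : F := (wt n / 256 % 4 : ℕ)

def dec (n : ℕ) : V := ![(n : ℕ), (n / 3 : ℕ), (n / 9 : ℕ), (n / 27 : ℕ), (n / 81 : ℕ), (n / 243 : ℕ)]
def enc (v : V) : ℕ :=
  (v 0).val + 3 * (v 1).val + 9 * (v 2).val + 27 * (v 3).val + 81 * (v 4).val + 243 * (v 5).val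

def rep (k : ℕ) : V := dec ([1, 0, 36, 246, 270, 271, 272, 81, 324, 82, 163, 522, 327].getD k 0)

def act (a b c : F) (e s : Bool) (v : V) : V := tf false false s (pf a b c (tf e false false v))

theorem enc_dec : ∀ n < 729, enc (dec n) = n := by decide +kernel

theorem dec_enc : ∀ a b c d e f : F, enc ![a, b, c, d, e, f] < 729 ∧
    dec (enc ![a, b, c, d, e, f]) = ![a, b, c, d, e, f] := by decide +kernel

theorem surj (v : V) : ∃ n < 729, dec n = v := by
  have e : v = ![v 0, v 1, v 2, v 3, v 4, v 5] := v_ext rfl rfl rfl rfl rfl rfl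
  rw [e]
  exact ⟨_, dec_enc ..⟩

set_option synthInstance.maxSize 2000 in
theorem c1 : ∀ n < 729, kl n ≤ 12 ∧ (kl n = 0 → dec n = zv ∨ dec n = -zv) ∧
    (dec n 5 = 0 → kl n ≤ 2 ∨ 7 ≤ kl n) ∧
    (kl n ≠ 1 → act (wa n) (wb n) (wc n) (wt n / 1024 % 2 = 1) (wt n / 2048 = 1) (rep (kl n)) = dec n) ∧
    (kl n = 1 → (wa n = 0 ∨ wb n = 0) ∧ (wa n ≠ 0 ∨ wb n ≠ 0 ∨ wc n ≠ 0) ∧ pf (wa n) (wb n) (wc n) (dec n) = dec n ∧
      dec n ≠ zv ∧ dec n ≠ -zv) := by decide +kernel

theorem card_eq {Ω : Set V} (key : ∀ n < 729, dec n ∈ Ω ↔ rep (kl n) ∈ Ω) (m : ℕ)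
    (h : ∀ j ≤ 12, rep j ∈ Ω ↔ m.testBit j = true) : Ω.ncard = cntN 729 fun n => m.testBit (kl n) := by
  rw [cntN_eq, ← Set.ncard_coe_finset]
  symm
  refine Set.ncard_congr (fun n _ => dec n) (fun n hn => ?_) (fun a b ha hb e => ?_) fun v hv => ?_
  · obtain ⟨h1, h2⟩ := Finset.mem_filter.1 hn
    rw [Finset.mem_range] at h1
    exact (key n h1).2 ((h _ (c1 n h1).1).2 h2)
  · rw [← enc_dec a (Finset.mem_range.1 (Finset.mem_filter.1 ha).1), e,
      enc_dec b (Finset.mem_range.1 (Finset.mem_filter.1 hb).1)]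
  · obtain ⟨n, hn, rfl⟩ := surj v
    exact ⟨n, Finset.mem_filter.2 ⟨Finset.mem_range.2 hn, (h _ (c1 n hn).1).1 ((key n hn).1 hv)⟩, rfl⟩

end Cnt

open Cnt in
theorem cnt {Ω : Set V} (hz : zv ∈ Ω) (hp : ∀ a b c : F, ∀ v ∈ Ω, pe a b c v ∈ Ω) (hs : ∀ v ∈ Ω, ss v ∈ Ω)
    (hg : ∀ v ∈ Ω, -v ∈ Ω)
    (fx : ∀ v ∈ Ω, ∀ a b c : F, (a = 0 ∨ b = 0) → (a ≠ 0 ∨ b ≠ 0 ∨ c ≠ 0) → pe a b c v = v → v = zv ∨ v = -zv)
    (bd : ∀ M ∈ Ω, ∀ y : V, ss M = M → y ≠ 0 → ss y = -y → M + y ∉ Ω) :
    (∀ v ∈ Ω, v 5 = 0 → v = zv ∨ v = -zv) ∨ Ω.ncard = 38 ∨ Ω.ncard = 92 ∨ Ω.ncard = 146 ∨ Ω.ncard = 200 := by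
  have t0 : ∀ v : V, tf false false false v = v := fun v => by
    refine v_ext ?_ ?_ ?_ ?_ ?_ ?_ <;> simp [tf, sg]
  have t1 : ∀ v : V, tf false false true v = -v := fun v => by
    refine v_ext ?_ ?_ ?_ ?_ ?_ ?_ <;> simp [tf, sg]
  have i1 : ∀ (s : Bool) (v : V), tf false false s v ∈ Ω ↔ v ∈ Ω := fun s v => by
    cases s
    · rw [t0]
    · rw [t1]; exact ⟨fun h => neg_neg v ▸ hg _ h, hg v⟩
  have i2 : ∀ (e : Bool) (v : V), tf e false false v ∈ Ω ↔ v ∈ Ω := fun e v => by
    cases e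
    · rw [t0]
    · exact ⟨fun h => tf_tf true false false v ▸ hs _ h, hs v⟩
  have i3 : ∀ (a b c : F) (v : V), pf a b c v ∈ Ω ↔ v ∈ Ω := fun a b c v =>
    ⟨fun h => (pe a b c).left_inv v ▸ hp _ _ _ _ h, hp a b c v⟩
  have no : ∀ n < 729, kl n = 1 → dec n ∉ Ω := fun n hn h hm => by
    obtain ⟨k1, k2, k3, k4, k5⟩ := (c1 n hn).2.2.2.2 h
    exact (fx _ hm _ _ _ k1 k2 k3).elim k4 k5
  have r1 : rep 1 ∉ Ω := no 0 (by norm_num) (by decide +kernel)
  have key : ∀ n < 729, dec n ∈ Ω ↔ rep (kl n) ∈ Ω := fun n hn => by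
    by_cases h : kl n = 1
    · rw [h]; exact iff_of_false (no n hn h) r1
    · rw [← (c1 n hn).2.2.2.1 h, act, i1, i3, i2]
  have ex : ∀ n m i j : ℕ, (n < 729 ∧ m < 729 ∧ kl n = i ∧ kl m = j ∧ tf true false false (dec n) = dec n ∧
      dec m - dec n ≠ 0 ∧ tf true false false (dec m - dec n) = -(dec m - dec n)) → rep i ∈ Ω → rep j ∉ Ω := by
    rintro n m _ _ ⟨hn, hm, rfl, rfl, k1, k2, k3⟩ h1 h2
    exact bd _ ((key n hn).2 h1) _ k1 k2 k3 (by rw [add_sub_cancel]; exact (key m hm).2 h2)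
  have r0 : rep 0 ∈ Ω := (show rep 0 = zv by decide +kernel) ▸ hz
  have r7 : rep 7 ∉ Ω := fun h => ex 81 90 7 7 (by decide +kernel) h h
  have r8 : rep 8 ∉ Ω := fun h => ex 297 309 8 8 (by decide +kernel) h h
  have r9 : rep 9 ∉ Ω := fun h => ex 82 91 9 9 (by decide +kernel) h h
  have r10 : rep 10 ∉ Ω := fun h => ex 83 92 10 10 (by decide +kernel) h h
  have r11 : rep 11 ∉ Ω := fun h => ex 299 311 11 11 (by decide +kernel) h h
  have r12 : rep 12 ∉ Ω := fun h => ex 298 310 12 12 (by decide +kernel) h h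
  have e45 := ex 270 282 4 5 (by decide +kernel)
  have e46 := ex 270 279 4 6 (by decide +kernel)
  have e56 := ex 271 283 5 6 (by decide +kernel)
  by_cases r2 : rep 2 ∈ Ω
  swap
  · refine Or.inl fun v hv h5 => ?_
    obtain ⟨n, hn, rfl⟩ := surj v
    obtain ⟨k1, k2, k3, -⟩ := c1 n hn
    have k4 := (key n hn).1 hv
    refine k2 ?_
    have k5 := k3 h5
    generalize kl n = j at k1 k4 k5
    by_contra k6
    have k7 : j = 1 ∨ j = 2 ∨ j = 7 ∨ j = 8 ∨ j = 9 ∨ j = 10 ∨ j = 11 ∨ j = 12 := by omega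
    rcases k7 with rfl | rfl | rfl | rfl | rfl | rfl | rfl | rfl
    exacts [r1 k4, r2 k4, r7 k4, r8 k4, r9 k4, r10 k4, r11 k4, r12 k4]
  right
  have fin : ∀ m N : ℕ, (rep 3 ∈ Ω ↔ m.testBit 3 = true) → (rep 4 ∈ Ω ↔ m.testBit 4 = true) →
      (rep 5 ∈ Ω ↔ m.testBit 5 = true) → (rep 6 ∈ Ω ↔ m.testBit 6 = true) →
      (m.testBit 0 = true ∧ m.testBit 1 = false ∧ m.testBit 2 = true ∧ (∀ j ≤ 12, 7 ≤ j → m.testBit j = false) ∧
        (H14.cntN 729 fun n => m.testBit (kl n)) = N) → Ω.ncard = N := by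
    rintro m N a3 a4 a5 a6 ⟨b0, b1, b2, b7, rfl⟩
    refine card_eq key m fun j hj => ?_
    have b := b7 j hj
    interval_cases j <;> first | assumption | simp [*]
  by_cases r3 : rep 3 ∈ Ω <;> by_cases r4 : rep 4 ∈ Ω <;> by_cases r5 : rep 5 ∈ Ω <;> by_cases r6 : rep 6 ∈ Ω
  · exact (e45 r4 r5).elim
  · exact (e45 r4 r5).elim
  · exact (e46 r4 r6).elim
  · simp [fin 29 200 (iff_of_true r3 rfl) (iff_of_true r4 rfl) (iff_of_false r5 (by decide)) (iff_of_false r6 (by decide))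
      (by decide +kernel)]
  · exact (e56 r5 r6).elim
  · simp [fin 45 200 (iff_of_true r3 rfl) (iff_of_false r4 (by decide)) (iff_of_true r5 rfl) (iff_of_false r6 (by decide))
      (by decide +kernel)]
  · simp [fin 77 200 (iff_of_true r3 rfl) (iff_of_false r4 (by decide)) (iff_of_false r5 (by decide)) (iff_of_true r6 rfl)
      (by decide +kernel)]
  · simp [fin 13 146 (iff_of_true r3 rfl) (iff_of_false r4 (by decide)) (iff_of_false r5 (by decide)) (iff_of_false r6 (by decide))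
      (by decide +kernel)]
  · exact (e45 r4 r5).elim
  · exact (e45 r4 r5).elim
  · exact (e46 r4 r6).elim
  · simp [fin 21 92 (iff_of_false r3 (by decide)) (iff_of_true r4 rfl) (iff_of_false r5 (by decide)) (iff_of_false r6 (by decide))
      (by decide +kernel)]
  · exact (e56 r5 r6).elim
  · simp [fin 37 92 (iff_of_false r3 (by decide)) (iff_of_false r4 (by decide)) (iff_of_true r5 rfl) (iff_of_false r6 (by decide))
      (by decide +kernel)]
  · simp [fin 69 92 (iff_of_false r3 (by decide)) (iff_of_false r4 (by decide)) (iff_of_false r5 (by decide)) (iff_of_true r6 rfl)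
      (by decide +kernel)]
  · simp [fin 5 38 (iff_of_false r3 (by decide)) (iff_of_false r4 (by decide)) (iff_of_false r5 (by decide)) (iff_of_false r6 (by decide))
      (by decide +kernel)]

end Cfsg.Agent.C3X
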