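import Cfsg.Agent.C3X.OmA
import Cfsg.Agent.C3X.Rank

set_option autoImplicit false

namespace Cfsg.Agent.C3X

open Subgroup

variable {X : Subgroup GV}

namespace Om0

/-- for each vector: its class, a move towards the representative, the distance to it -/
def tb : ℕ := nat_lit 0x12136d0a5310467114531444311c6712132d1a31194551842518c670d4630e34296156d84570c452d44431134908456d2458d5c6114c44d4c58d5c511234314c3905c62d82471246518444944631826318458952551644518c569445695c491425315c5318a5511c610e130cda411846512126ce253154630d457184630d45318c4514c28cda584c452ce458d5c6515c48d0452d445310442d044310b651234314c38ccc430a427143651645099a51124531446294a47164651445494c6110a49112570e45491c5710c5090c56d644711b5315b67144370db690cc34d5440d94471a33110458c8431064231e34518452954711525695459154711224519436902511a43919a550a462954610e47095c5719c5515c5716142d4a4311c5714c5319c5850b52944351045111445123529a158d443110440d8c44d4c5510446de452d04210c3670c423093590cc34d8c3904c68da4631cc30cd9269a4451d420c9948964651c47116475164731a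4491cc630c216d19411d442964609145119452984608c4411d4569046515250894591123519c3319c6091c46dc454cc4311036310c42d044114452d9c34d4c330cc34da447113610a42314330cd932964531dc7912465144631e432cc9369a455184491dc790e4711cc4088b405a464904511cc4494c5514a511d458964508d4531846295a351a4549046710c671c25515440984650d2611425318465142511544499456914668546919225194211c4769134311448d1c5715452d5c42d5c4311353114571436104444d2421143510e4011836918c791645319c42d11429a4631a46919c7710b4250a591a45912461164528cb5255a371e4651c4349644094c631d438992451cc691126718c5510255184569046319a511d4428e45299c40914691245499c551c434912451dc571945095c7311a53124609244491c5691c6918c77142548dc691645495c51184449445915a511945291c531826119432952371dc590d26710a271e465184469644095c6319c509546715a3118c509645298c651cc24912551e4611d448924649943090c6314465102451cc4694c591ca4490c691244295c511844296454944528cc5719c7314a551a4549046119a4315c6095c571546311c6115c5519c530dc6519c3514441114610e114ca2284932486324921491dc69124631d45916471164731e46919c651a4671dc10c51388a32045220803304c23288a308821690a428ca30902289023089a5290a3288230862208420086100400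

def en (v : V) : ℕ := Nat.mod (Nat.shiftRight tb (10 * ((v 0).val + 3 * (v 1).val + 9 * (v 2).val + 27 * (v 3).val +
  81 * (v 4).val + 243 * (v 5).val))) 1024

def mv : ℕ → V → V
  | 0, v => pf 1 0 0 v
  | 1, v => pf 0 1 0 v
  | 2, v => yaf 1 v
  | 3, v => ybf 1 v
  | _, v => -v

def rep : ℕ → V
  | 0 => 0
  | 1 => zv
  | 2 => ![0, 1, 0, 0, 0, 0]
  | 3 => ![1, 0, 0, 1, 0, 0]
  | _ => ![1, 0, 0, 1, 0, 1]

def Ok (v : V) : Prop := v = rep (en v % 8) ∨
  en (mv (en v / 8 % 8) v) % 8 = en v % 8 ∧ en (mv (en v / 8 % 8) v) / 64 < en v / 64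

instance (v : V) : Decidable (Ok v) := by unfold Ok; infer_instance

theorem eta (v : V) : ![v 0, v 1, v 2, v 3, v 4, v 5] = v := v_ext rfl rfl rfl rfl rfl rfl

theorem ok : ∀ a b c d e f : F, Ok ![a, b, c, d, e, f] := by decide +kernel

theorem one : ∀ a b c d e f : F, en ![a, b, c, d, e, f] % 8 = 1 → ∃ i j k : F, ![i, j, k] ≠ 0 ∧
    (![a, b, c, d, e, f] = sq3 ![i, j, k] ∨ ![a, b, c, d, e, f] = -sq3 ![i, j, k]) := by decide +kernel

theorem one' : ∀ u : Fin 3 → F, u ≠ 0 → en (sq3 u) % 8 = 1 := by decide +kernel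

theorem cnt : (Finset.univ.filter fun v : V => en v % 8 = 1 ∨ 4 ≤ en v % 8).card = 494 := by decide +kernel

theorem act {x : GV} (hx : x ∈ X) {v : V} : x v ∈ Om X ↔ v ∈ Om X :=
  ⟨fun h => ginv x v ▸ Om.act (inv_mem hx) h, Om.act hx⟩

theorem zf0 (v : V) : zf 0 v = v := by
  refine v_ext ?_ rfl rfl rfl rfl rfl
  simp [zf]

variable (hP : PP ≤ X) (ha : ya 0 ∈ X) (hb : yb 0 ∈ X)
include hP ha hb

theorem mv_iff (k : ℕ) (v : V) : mv k v ∈ Om X ↔ v ∈ Om X := by
  rcases k with _ | _ | _ | _ | k
  · exact act (hP (pe_mem 1 0 0))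
  · exact act (hP (pe_mem 0 1 0))
  · rw [← act ha (v := v), ya_apply, neg_zero, zf0, zf0]
    rfl
  · rw [← act hb (v := v), yb_apply, neg_zero, zf0, zf0]
    rfl
  · exact ⟨fun h => neg_neg v ▸ Om.neg h, Om.neg⟩

theorem iff_rep (v : V) : v ∈ Om X ↔ rep (en v % 8) ∈ Om X := by
  generalize hn : en v / 64 = n
  induction n using Nat.strong_induction_on generalizing v with
  | _ n ih =>
    rcases (eta v ▸ ok (v 0) (v 1) (v 2) (v 3) (v 4) (v 5) : Ok v) with e | ⟨e, l⟩
    · rw [← e]
    · rw [← mv_iff hP ha hb (en v / 8 % 8) v, ih _ (hn ▸ l) _ rfl, e]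

end Om0

open Om0

theorem sq3_mem (hP : PP ≤ X) (ha : ya 0 ∈ X) (hb : yb 0 ∈ X) {u : Fin 3 → F} (hu : u ≠ 0) : sq3 u ∈ Om X := by
  rw [iff_rep hP ha hb, one' u hu]
  exact Om.z X

theorem om0 (h : Hyp X) (ha : ya 0 ∈ X) (hb : yb 0 ∈ X) {v : V} (hv : v ∈ Om X) :
    ∃ u : Fin 3 → F, u ≠ 0 ∧ (v = sq3 u ∨ v = -sq3 u) := by
  have k : ∀ n, rep n ∈ Om X → n = 1 ∨ 4 ≤ n := fun n hn => by
    rcases n with _ | _ | _ | _ | n
    · obtain ⟨x, -, e⟩ := hn
      rw [show -rep 0 = rep 0 from neg_zero, or_self] at e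
      exact absurd (x.map_eq_zero_iff.1 e) zv_ne
    · exact Or.inl rfl
    · exact absurd (omA h hn (by decide)) (by decide)
    · exact absurd (omA h hn (by decide)) (by decide)
    · omega
  have k4 : ∀ n, 4 ≤ n → rep n = rep 4 := fun n hn => by
    obtain ⟨m, rfl⟩ := Nat.exists_eq_add_of_le' hn
    rfl
  rw [iff_rep h.le ha hb] at hv
  rcases k _ hv with e | e
  · obtain ⟨i, j, l, h1, h2⟩ := one (v 0) (v 1) (v 2) (v 3) (v 4) (v 5) (by rwa [eta])
    exact ⟨_, h1, by rwa [eta] at h2⟩
  · have e1 : Om X = ↑(Finset.univ.filter fun v : V => en v % 8 = 1 ∨ 4 ≤ en v % 8) := by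
      ext w
      rw [Finset.coe_filter, Set.mem_setOf_eq, and_iff_right (Finset.mem_univ w), iff_rep h.le ha hb]
      refine ⟨k _, fun hw => ?_⟩
      rcases hw with hw | hw
      · rw [hw]
        exact Om.z X
      · rwa [k4 _ hw, ← k4 _ e]
    obtain ⟨n, h1, h2⟩ := om_card X
    rw [e1, Set.ncard_coe_finset, cnt] at h1
    obtain rfl : n = 19 * 13 := by omega
    exact absurd ((dvd_mul_right 19 13).trans h2) (nd X).1

end Cfsg.Agent.C3X
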