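import Cfsg.Agent.C3X.Bas

/-! Project C3X: three orbits on the non-zero vectors, by a table of distances. -/

set_option autoImplicit false

namespace Cfsg.Agent.C3X

open Subgroup

variable {X : Subgroup GV}

/-- the distance to the representative of the orbit -/
def om1Rk (v : V) : ℕ :=
  (0xd34879987888d3498788987944d9757766546867655866549557686b7c76c55c656b6b7475c86cb66878d33998d2488988779a89833d776866665765687675856846879c466b6b665b5c66c7466c76cb85775665865596785876765966768b86c655a7c75c734b786b97cc77988768d45878876d3599998755d965686964695a75a6549758776a88833298a224a9897a999899314a4666aa6666ba56a557a5795977697a6596487657697558669677933399a989989333a8999999942456bb57a55b3665bb665a46a5a77a56a46659a4594455a6a57a6b6787395457696496568668779788aa9aa9a444a9a98a444a9aa9a5355a7a6384aa756a7749b64b65b76a7485b4b885ab73598c75b74c7674b5a6b755a675ba64b55b65a86a535a77394a6a5464ab65a55b7575ab72497a7586b3a8b64b74c674a674aa6475b5b7b65c55b66c76999989a9899998aa98e13e2222e888987879777788869113221203332321443444432543333210f00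 >>> (4 * ((v 0).val + 3 * (v 1).val + 9 * (v 2).val + 27 * (v 3).val + 81 * (v 4).val + 243 * (v 5).val))) % 16

/-- a representative, or one step closer -/
def Om1St (v : V) : Prop :=
  v = ![0, 0, 0, 0, 0, 0] ∨ (v = zv ∨ v = ![0, 1, 0, 0, 0, 0] ∨ v = ![1, 0, 0, 1, 0, 0]) ∨ om1Rk (pf 1 0 0 v) < om1Rk v ∨
    om1Rk (pf 0 1 0 v) < om1Rk v ∨ om1Rk (zf 1 (yaf 1 (zf (-1) v))) < om1Rk v ∨ om1Rk (zf 0 (ybf 1 (zf (-0) v))) < om1Rk v

instance : DecidablePred Om1St := fun v => by unfold Om1St; infer_instance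

theorem om1_st : ∀ a b c d e f : F, Om1St ![a, b, c, d, e, f] := by decide +kernel

theorem orb1 (hP : PP ≤ X) (ha : ya 1 ∈ X) (hb : yb 0 ∈ X) {v : V} (hv : v ≠ 0) :
    ∃ x ∈ X, x v = zv ∨ x v = ![0, 1, 0, 0, 0, 0] ∨ x v = ![1, 0, 0, 1, 0, 0] := by
  induction hn : om1Rk v using Nat.strong_induction_on generalizing v with
  | _ n ih =>
    have k : ∀ g ∈ X, om1Rk (g v) < om1Rk v →
        ∃ x ∈ X, x v = zv ∨ x v = ![0, 1, 0, 0, 0, 0] ∨ x v = ![1, 0, 0, 1, 0, 0] := fun g hg h => by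
      obtain ⟨x, hx, e⟩ := ih _ (hn ▸ h) (g.map_ne_zero_iff.2 hv) rfl
      exact ⟨x * g, mul_mem hx hg, e⟩
    have h : Om1St v := v_ext (v := ![v 0, v 1, v 2, v 3, v 4, v 5]) (w := v) rfl rfl rfl rfl rfl rfl ▸ om1_st ..
    rcases h with h | h | h | h | h | h
    · exact absurd (h.trans (by decide)) hv
    · exact ⟨1, one_mem _, h⟩
    · exact k _ (hP ⟨1, 0, 0, rfl⟩) h
    · exact k _ (hP ⟨0, 1, 0, rfl⟩) h
    · exact k _ ha h
    · exact k _ hb h

end Cfsg.Agent.C3X
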